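import Mathlib

/-!
# The action of `End (𝟙_ D)` on objects of a braided monoidal category
-/

set_option linter.unusedSectionVars false
set_option linter.unusedVariables false
set_option linter.unusedSimpArgs false
set_option autoImplicit false
set_option linter.style.haveILetI false
set_option maxHeartbeats 400000

universe v u

open CategoryTheory MonoidalCategory

namespace Groth.Agent.Helper6.PicTorsor

variable {D : Type u} [Category.{v} D] [MonoidalCategory D]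

/-- The action of an endomorphism of the unit on an object. -/
def act (φ : 𝟙_ D ⟶ 𝟙_ D) (Z : D) : Z ⟶ Z := (λ_ Z).inv ≫ (φ ▷ Z) ≫ (λ_ Z).hom

/-- The right action of an endomorphism of the unit on an object. -/
def ract (φ : 𝟙_ D ⟶ 𝟙_ D) (Z : D) : Z ⟶ Z := (ρ_ Z).inv ≫ (Z ◁ φ) ≫ (ρ_ Z).hom

@[simp] lemma act_id (Z : D) : act (𝟙 (𝟙_ D)) Z = 𝟙 Z := by simp [act]

lemma act_comp (φ ψ : 𝟙_ D ⟶ 𝟙_ D) (Z : D) : act (φ ≫ ψ) Z = act φ Z ≫ act ψ Z := by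
  simp [act]

@[reassoc]
lemma act_naturality (φ : 𝟙_ D ⟶ 𝟙_ D) {Z W : D} (f : Z ⟶ W) : act φ Z ≫ f = f ≫ act φ W := by
  simp only [act, Category.assoc]
  rw [← leftUnitor_naturality, ← whisker_exchange_assoc, leftUnitor_inv_naturality_assoc]

lemma act_whiskerRight (φ : 𝟙_ D ⟶ 𝟙_ D) (Z W : D) : act φ Z ▷ W = act φ (Z ⊗ W) := by
  simp only [act, comp_whiskerRight, leftUnitor_tensor_hom, leftUnitor_tensor_inv, Category.assoc]
  simp

lemma whiskerLeft_act (φ : 𝟙_ D ⟶ 𝟙_ D) (Z W : D) : Z ◁ act φ W = ract φ Z ▷ W := by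
  simp only [act, ract, comp_whiskerRight, MonoidalCategory.whiskerLeft_comp]
  simp

section Braided

variable [BraidedCategory D]

lemma ract_eq_act (φ : 𝟙_ D ⟶ 𝟙_ D) (Z : D) : ract φ Z = act φ Z := by
  simp only [act, ract]
  rw [← cancel_epi (ρ_ Z).hom, ← cancel_mono (ρ_ Z).inv]
  simp only [Category.assoc, Iso.hom_inv_id_assoc, Iso.hom_inv_id, Category.comp_id]
  have h1 : (ρ_ Z).hom = (β_ Z (𝟙_ D)).hom ≫ (λ_ Z).hom := by simp
  have h2 : (ρ_ Z).inv = (λ_ Z).inv ≫ (β_ Z (𝟙_ D)).inv := by simp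
  rw [h1, h2]
  simp only [Category.assoc, Iso.hom_inv_id_assoc]
  rw [← BraidedCategory.braiding_naturality_right_assoc, Iso.hom_inv_id, Category.comp_id]

lemma act_tensor (φ ψ : 𝟙_ D ⟶ 𝟙_ D) (Z W : D) :
    act φ Z ⊗ₘ act ψ W = act (φ ≫ ψ) (Z ⊗ W) := by
  rw [MonoidalCategory.tensorHom_def, whiskerLeft_act, ract_eq_act, act_whiskerRight,
    act_whiskerRight, act_comp]

lemma act_mul (φ ψ : End (𝟙_ D)) (Z : D) :
    act (φ * ψ : End (𝟙_ D)) Z = act (φ : 𝟙_ D ⟶ 𝟙_ D) Z ≫ act (ψ : 𝟙_ D ⟶ 𝟙_ D) Z := by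
  rw [End.mul_def, act_comp, act_naturality]

lemma act_mul' (φ ψ : End (𝟙_ D)) (Z W : D) :
    act (φ * ψ : End (𝟙_ D)) (Z ⊗ W)
      = act (φ : 𝟙_ D ⟶ 𝟙_ D) Z ⊗ₘ act (ψ : 𝟙_ D ⟶ 𝟙_ D) W := by
  rw [act_tensor, act_mul, act_comp]

end Braided


section Bijective

variable (Z : D) [(tensorRight Z).IsEquivalence]

lemma act_injective {φ ψ : 𝟙_ D ⟶ 𝟙_ D} (h : act φ Z = act ψ Z) : φ = ψ := by
  simp only [act] at h
  rw [← cancel_epi (λ_ Z).hom, ← cancel_mono (λ_ Z).inv] at h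
  simp only [Category.assoc, Iso.hom_inv_id_assoc, Iso.hom_inv_id, Category.comp_id] at h
  exact (tensorRight Z).map_injective h

lemma act_surjective (a : Z ⟶ Z) : ∃ φ : 𝟙_ D ⟶ 𝟙_ D, act φ Z = a := by
  obtain ⟨φ, hφ⟩ := (tensorRight Z).map_surjective ((λ_ Z).hom ≫ a ≫ (λ_ Z).inv)
  refine ⟨φ, ?_⟩
  have : φ ▷ Z = (λ_ Z).hom ≫ a ≫ (λ_ Z).inv := hφ
  simp [act, this]

end Bijective

end Groth.Agent.Helper6.PicTorsor
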