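import Groth.Agent.Lib.Helper6.PicTorsor.Act

/-!
# Monoidal natural transformations between Picard categories form a torsor
-/

set_option linter.unusedSectionVars false
set_option linter.unusedVariables false
set_option linter.unusedSimpArgs false
set_option autoImplicit false
set_option linter.style.haveILetI false
set_option maxHeartbeats 400000

universe v v' u u'

open CategoryTheory MonoidalCategory Functor.LaxMonoidal

namespace Groth.Agent.Helper6.PicTorsor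

variable {C : Type u} [Category.{v} C] [MonoidalCategory C] [IsGroupoid C]
  {D : Type u'} [Category.{v'} D] [MonoidalCategory D] [BraidedCategory D] [IsGroupoid D]
  (F G : C ⥤ D) [F.LaxMonoidal] [G.LaxMonoidal] (θ₀ : F ⟶ G) [NatTrans.IsMonoidal θ₀]

/-- Part 2: a character gives a monoidal natural transformation. -/
theorem exists_of_char (χ : Skeleton C →* End (𝟙_ D)) :
    ∃ θ : F ⟶ G, NatTrans.IsMonoidal θ ∧ ∀ X : C,
      θ.app X = θ₀.app X ≫ act (χ (toSkeleton X) : 𝟙_ D ⟶ 𝟙_ D) (G.obj X) := by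
  refine ⟨{ app := fun X => θ₀.app X ≫ act (χ (toSkeleton X) : 𝟙_ D ⟶ 𝟙_ D) (G.obj X)
            naturality := ?_ }, ⟨?_, ?_⟩, fun X => rfl⟩
  · intro X Y f
    have h : toSkeleton X = toSkeleton Y := congr_toSkeleton_of_iso (asIso f)
    rw [h, Category.assoc, act_naturality, θ₀.naturality_assoc]
  · change ε F ≫ θ₀.app (𝟙_ C) ≫ act (χ (toSkeleton (𝟙_ C)) : 𝟙_ D ⟶ 𝟙_ D) (G.obj (𝟙_ C)) = ε G
    rw [← Skeleton.one_eq, map_one, End.one_def, act_id, Category.comp_id,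
      NatTrans.IsMonoidal.unit]
  · intro X Y
    change μ F X Y ≫ θ₀.app (X ⊗ Y) ≫ act (χ (toSkeleton (X ⊗ Y)) : 𝟙_ D ⟶ 𝟙_ D) (G.obj (X ⊗ Y))
      = ((θ₀.app X ≫ act (χ (toSkeleton X) : 𝟙_ D ⟶ 𝟙_ D) (G.obj X)) ⊗ₘ
          (θ₀.app Y ≫ act (χ (toSkeleton Y) : 𝟙_ D ⟶ 𝟙_ D) (G.obj Y))) ≫ μ G X Y
    rw [Skeleton.toSkeleton_tensorObj, map_mul, ← MonoidalCategory.tensorHom_comp_tensorHom,
      ← act_mul', Category.assoc, act_naturality, NatTrans.IsMonoidal.tensor_assoc]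

variable (hD : ∀ X : D, (tensorRight X).IsEquivalence)

include hD in
/-- Part 1: a monoidal natural transformation differs from `θ₀` by a unique character. -/
theorem existsUnique_char (θ : F ⟶ G) [NatTrans.IsMonoidal θ] :
    ∃! χ : Skeleton C →* End (𝟙_ D), ∀ X : C,
      θ.app X = θ₀.app X ≫ act (χ (toSkeleton X) : 𝟙_ D ⟶ 𝟙_ D) (G.obj X) := by
  -- the pointwise classes
  have hex : ∀ X : C, ∃ φ : End (𝟙_ D), act (φ : 𝟙_ D ⟶ 𝟙_ D) (G.obj X)
      = inv (θ₀.app X) ≫ θ.app X := by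
    intro X
    haveI := hD (G.obj X)
    exact act_surjective (G.obj X) _
  choose φ hφ using hex
  have hinj : ∀ (X : C) {a b : End (𝟙_ D)}, act (a : 𝟙_ D ⟶ 𝟙_ D) (G.obj X)
      = act (b : 𝟙_ D ⟶ 𝟙_ D) (G.obj X) → a = b := by
    intro X a b h
    haveI := hD (G.obj X)
    exact act_injective (G.obj X) h
  -- invariance under isomorphism
  have hiso : ∀ {X Y : C} (f : X ⟶ Y), φ X = φ Y := by
    intro X Y f
    apply hinj Y
    rw [hφ Y]
    have h1 : act (φ X) (G.obj Y) = inv (G.map f) ≫ act (φ X) (G.obj X) ≫ G.map f := by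
      rw [act_naturality, IsIso.inv_hom_id_assoc]
    have h2 : inv (θ₀.app X) ≫ F.map f = G.map f ≫ inv (θ₀.app Y) := by
      rw [IsIso.inv_comp_eq, ← θ₀.naturality_assoc, IsIso.hom_inv_id, Category.comp_id]
    rw [h1, hφ X, Category.assoc, ← θ.naturality, reassoc_of% h2, IsIso.inv_hom_id_assoc]
  have hout : ∀ X : C, φ ((fromSkeleton C).obj (toSkeleton X)) = φ X := by
    intro X
    exact hiso (fromSkeletonToSkeletonIso X).hom
  -- multiplicativity
  have hmul : ∀ X Y : C, φ (X ⊗ Y) = φ X * φ Y := by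
    intro X Y
    apply hinj (X ⊗ Y)
    rw [hφ (X ⊗ Y)]
    have h1 : act ((φ X * φ Y : End (𝟙_ D)) : 𝟙_ D ⟶ 𝟙_ D) (G.obj (X ⊗ Y))
        = inv (μ G X Y) ≫ act ((φ X * φ Y : End (𝟙_ D)) : 𝟙_ D ⟶ 𝟙_ D) (G.obj X ⊗ G.obj Y)
          ≫ μ G X Y := by
      rw [act_naturality, IsIso.inv_hom_id_assoc]
    have h2 : inv (μ G X Y) ≫ inv (θ₀.app X ⊗ₘ θ₀.app Y)
        = inv (θ₀.app (X ⊗ Y)) ≫ inv (μ F X Y) := by
      simp only [← IsIso.inv_comp, NatTrans.IsMonoidal.tensor]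
    have h3 : act (φ X : 𝟙_ D ⟶ 𝟙_ D) (G.obj X) ⊗ₘ act (φ Y : 𝟙_ D ⟶ 𝟙_ D) (G.obj Y)
        = inv (θ₀.app X ⊗ₘ θ₀.app Y) ≫ (θ.app X ⊗ₘ θ.app Y) := by
      rw [hφ X, hφ Y, ← MonoidalCategory.tensorHom_comp_tensorHom, IsIso.eq_inv_comp,
        ← Category.assoc, MonoidalCategory.tensorHom_comp_tensorHom, IsIso.hom_inv_id,
        IsIso.hom_inv_id, MonoidalCategory.id_tensorHom_id, Category.id_comp]
    symm
    rw [h1, act_mul', h3, Category.assoc, ← NatTrans.IsMonoidal.tensor, reassoc_of% h2,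
      IsIso.inv_hom_id_assoc]
  have hone : φ (𝟙_ C) = 1 := by
    apply hinj (𝟙_ C)
    rw [hφ, End.one_def, act_id, IsIso.inv_comp_eq, Category.comp_id]
    have h1 : ε F ≫ θ.app (𝟙_ C) = ε F ≫ θ₀.app (𝟙_ C) := by
      rw [NatTrans.IsMonoidal.unit, NatTrans.IsMonoidal.unit]
    exact (cancel_epi (ε F)).mp h1
  let χ : Skeleton C →* End (𝟙_ D) :=
    { toFun := fun s => φ ((fromSkeleton C).obj s)
      map_one' := by
        rw [Skeleton.one_eq, hout, hone]
      map_mul' := fun s t => by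
        have hst : s * t = toSkeleton ((fromSkeleton C).obj s ⊗ (fromSkeleton C).obj t) :=
          Skeleton.mul_eq s t
        rw [hst, hout, hmul] }
  refine ⟨χ, ?_, ?_⟩
  · intro X
    change θ.app X = θ₀.app X ≫ act (φ ((fromSkeleton C).obj (toSkeleton X)) : 𝟙_ D ⟶ 𝟙_ D)
      (G.obj X)
    rw [hout, hφ, IsIso.hom_inv_id_assoc]
  · intro χ' hχ'
    ext s
    have hs : toSkeleton ((fromSkeleton C).obj s) = s := toSkeleton_fromSkeleton_obj s
    change χ' s = φ ((fromSkeleton C).obj s)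
    apply hinj ((fromSkeleton C).obj s)
    have := hχ' ((fromSkeleton C).obj s)
    rw [hs] at this
    rw [hφ, IsIso.eq_inv_comp, ← this]

end Groth.Agent.Helper6.PicTorsor
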